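import Cfsg.Agent.Lib.PGroup.CharPLocal
import Cfsg.Agent.Lib.Coprime.Subnormal
import Cfsg.Prelude.Def_QuasithinSetup

/-!
# Faithful members of `ℒ(G, T)` are closed upwards
-/

set_option autoImplicit false
set_option linter.style.haveILetI false

open Subgroup CfsgLib.Coprime CfsgLib.Invol
open scoped Pointwise

namespace CfsgLib.Quasithin

variable {G : Type*} [Group G]

theorem twoCore_le (H : Subgroup G) : Cfsg.pCoreTwoOf H ≤ H := map_subtype_le _

theorem isPGroup_twoCore [Finite G] (H : Subgroup G) : IsPGroup 2 (Cfsg.pCoreTwoOf H) :=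
  (CfsgLib.Coprime.pCore_isPGroup 2).map _

theorem le_normalizer_twoCore (H : Subgroup G) :
    H ≤ normalizer (Cfsg.pCoreTwoOf H : Set G) := by
  haveI := pCore_normal' (G := H) 2
  have key : ∀ h ∈ H, ∀ x ∈ Cfsg.pCoreTwoOf H, h * x * h⁻¹ ∈ Cfsg.pCoreTwoOf H := by
    rintro h hh _ ⟨x, hx, rfl⟩
    exact ⟨_, this.conj_mem x hx ⟨h, hh⟩, rfl⟩
  intro h hh
  refine mem_normalizer_iff.2 fun x => ⟨fun hx => key h hh x hx, fun hx => ?_⟩
  simpa [mul_assoc] using key h⁻¹ (inv_mem hh) _ hx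

theorem le_twoCore [Finite G] {R H : Subgroup G} (hRH : R ≤ H) (hR : IsPGroup 2 R)
    (hHR : H ≤ normalizer (R : Set G)) : R ≤ Cfsg.pCoreTwoOf H := by
  haveI : (R.subgroupOf H).Normal := (normal_subgroupOf_iff_le_normalizer hRH).2 hHR
  have h := map_mono (f := H.subtype)
    (CfsgLib.Coprime.le_pCore (hR.of_equiv (subgroupOfEquivOfLe hRH).symm))
  rwa [map_subgroupOf_eq_of_le hRH] at h

theorem twoCore_mono [Finite G] {A B : Subgroup G} (hAB : A ≤ B)
    (hsn : (A.subgroupOf B).IsSubnormal) : Cfsg.pCoreTwoOf A ≤ Cfsg.pCoreTwoOf B := by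
  have hle : Cfsg.pCoreTwoOf A ≤ B := (twoCore_le A).trans hAB
  have hsub : ((Cfsg.pCoreTwoOf A).subgroupOf B).IsSubnormal := by
    refine IsSubnormal.step _ (A.subgroupOf B) (comap_mono (twoCore_le A)) hsn ?_
    refine (normal_subgroupOf_iff_le_normalizer (comap_mono (twoCore_le A))).2 fun b hb => ?_
    refine mem_normalizer_iff.2 fun x => ?_
    exact mem_normalizer_iff.1 (le_normalizer_twoCore A (mem_subgroupOf.1 hb)) x
  have h := map_mono (f := B.subtype) (le_pCore_of_isSubnormal hsub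
    ((isPGroup_twoCore A).of_equiv (subgroupOfEquivOfLe hle).symm))
  rwa [map_subgroupOf_eq_of_le hle] at h

/-- A perfect subgroup is generated by its elements of odd order. -/
theorem oddGenerated_eq_of_perfect [Finite G] {L : Subgroup G} (hp : ⁅L, L⁆ = L) :
    Cfsg.oddGenerated L = L := by
  set J := Cfsg.oddGenerated L with hJ
  have hJL : J ≤ L := (closure_le _).2 fun x hx => hx.1
  have hn : L ≤ normalizer (J : Set G) := by
    have key : ∀ l ∈ L, ∀ x ∈ J, l * x * l⁻¹ ∈ J := by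
      intro l hl x hx
      rw [hJ, Cfsg.oddGenerated] at hx ⊢
      induction hx using closure_induction with
      | mem y hy =>
        refine subset_closure ⟨mul_mem (mul_mem hl hy.1) (inv_mem hl), ?_⟩
        have := orderOf_injective (MulAut.conj l).toMonoidHom (MulAut.conj l).injective y
        rw [MulEquiv.coe_toMonoidHom, MulAut.conj_apply] at this
        rw [this]; exact hy.2
      | one => simp
      | mul a b _ _ ha hb =>
        rw [show l * (a * b) * l⁻¹ = (l * a * l⁻¹) * (l * b * l⁻¹) by group]; exact mul_mem ha hb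
      | inv a _ ha =>
        rw [show l * a⁻¹ * l⁻¹ = (l * a * l⁻¹)⁻¹ by group]; exact inv_mem ha
    intro l hl
    refine mem_normalizer_iff.2 fun x => ⟨fun hx => key l hl x hx, fun hx => ?_⟩
    simpa [mul_assoc] using key l⁻¹ (inv_mem hl) _ hx
  haveI : (J.subgroupOf L).Normal := (normal_subgroupOf_iff_le_normalizer hJL).2 hn
  refine le_antisymm hJL ?_
  by_contra hne
  haveI : Fact (Nat.Prime 2) := ⟨Nat.prime_two⟩
  have hq : IsPGroup 2 (L ⧸ J.subgroupOf L) := by
    intro y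
    obtain ⟨x, rfl⟩ := QuotientGroup.mk_surjective y
    obtain ⟨a, m, hm, he⟩ := Nat.exists_eq_pow_mul_and_not_dvd (orderOf_pos x).ne' 2 (by norm_num)
    refine ⟨a, ?_⟩
    rw [← QuotientGroup.mk_pow, QuotientGroup.eq_one_iff, mem_subgroupOf]
    refine subset_closure ⟨(x ^ 2 ^ a).2, ?_⟩
    rw [Subgroup.orderOf_coe, orderOf_pow_of_dvd (by positivity) ⟨m, he⟩, he,
      Nat.mul_div_cancel_left m (by positivity)]
    exact Nat.not_even_iff_odd.1 fun h => hm (even_iff_two_dvd.1 h)
  haveI : Nontrivial (L ⧸ J.subgroupOf L) := QuotientGroup.nontrivial_iff.2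
    fun e => hne (subgroupOf_eq_top.1 e)
  haveI := hq.isNilpotent
  have hlt := Group.IsSolvable.commutator_lt_top_of_nontrivial (G := L ⧸ J.subgroupOf L)
  refine hlt.ne (top_unique ?_)
  have h1 : (⊤ : Subgroup L) ≤ commutator L := by
    have : (commutator L).map L.subtype = L := by rw [map_subtype_commutator]; exact hp
    intro x _
    have hx : (x : G) ∈ (commutator L).map L.subtype := this.symm ▸ x.2
    obtain ⟨z, hz, hzx⟩ := hx
    exact Subtype.ext hzx ▸ hz
  rintro y -
  obtain ⟨x, rfl⟩ := QuotientGroup.mk'_surjective (J.subgroupOf L) y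
  have := mem_map_of_mem (QuotientGroup.mk' (J.subgroupOf L)) (h1 (mem_top x))
  rw [commutator_def, map_commutator] at this
  exact commutator_mono le_top le_top this

/-- Elements of odd order lie in a subnormal subgroup of `2`-power index. -/
theorem mem_of_isSubnormal_of_index [Finite G] {H : Subgroup G} (hH : H.IsSubnormal) :
    ∀ k : ℕ, H.index ∣ 2 ^ k → ∀ y : G, Odd (orderOf y) → y ∈ H := by
  induction hH with
  | top => exact fun _ _ y _ => mem_top y
  | step H K hle _ hN ih =>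
    intro k hk y hy
    rw [← relIndex_mul_index hle] at hk
    have hyK : y ∈ K := ih k (Dvd.intro_left _ rfl |>.trans hk) y hy
    haveI := hN
    have hd : orderOf (QuotientGroup.mk' (H.subgroupOf K) ⟨y, hyK⟩) = 1 := by
      have h1 := orderOf_map_dvd (QuotientGroup.mk' (H.subgroupOf K)) (⟨y, hyK⟩ : K)
      rw [← Subgroup.orderOf_coe] at h1
      have h2 : orderOf (QuotientGroup.mk' (H.subgroupOf K) ⟨y, hyK⟩) ∣ 2 ^ k :=
        (_root_.orderOf_dvd_natCard _).trans ((Dvd.intro _ rfl).trans hk)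
      exact Nat.eq_one_of_dvd_coprimes
        ((Nat.coprime_two_right.2 hy).pow_right k) h1 h2
    have := (QuotientGroup.eq_one_iff (⟨y, hyK⟩ : K)).1 (orderOf_eq_one_iff.1 hd)
    exact mem_subgroupOf.1 this

/-- `O_2(X)` normalizes every perfect subnormal subgroup of `X`. -/
theorem twoCore_le_normalizer [Finite G] {L X : Subgroup G} (hLX : L ≤ X)
    (hsn : (L.subgroupOf X).IsSubnormal) (hp : ⁅L, L⁆ = L) :
    Cfsg.pCoreTwoOf X ≤ normalizer (L : Set G) := by
  haveI : Fact (Nat.Prime 2) := ⟨Nat.prime_two⟩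
  set Q := Cfsg.pCoreTwoOf X with hQ
  set J := L ⊔ Q with hJ
  have hJX : J ≤ X := sup_le hLX (twoCore_le X)
  have hsnJ : (L.subgroupOf J).IsSubnormal := by
    have := hsn.comap (inclusion hJX)
    exact this
  haveI : (Q.subgroupOf J).Normal := (normal_subgroupOf_iff_le_normalizer le_sup_right).2
    (hJX.trans (le_normalizer_twoCore X))
  obtain ⟨k, hk⟩ := ((isPGroup_twoCore X).of_equiv
    (subgroupOfEquivOfLe (le_sup_right : Q ≤ J)).symm).exists_card_eq
  have hidx : (L.subgroupOf J).index ∣ 2 ^ k := by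
    have e1 := (Q.subgroupOf J).card_mul_index
    have e2 := (L.subgroupOf J).card_mul_index
    have e3 : L.subgroupOf J ⊔ Q.subgroupOf J = ⊤ := by
      rw [← subgroupOf_sup le_sup_left le_sup_right, subgroupOf_self]
    have e4 := relIndex_sup_right (H := L.subgroupOf J) (K := Q.subgroupOf J)
    rw [e3, relIndex_top_right] at e4
    have e5 : (Q.subgroupOf J).relIndex (L.subgroupOf J) * (L.subgroupOf J).index * 1 =
        (Q.subgroupOf J).relIndex (L.subgroupOf J) * (L.subgroupOf J).index := mul_one _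
    rw [← hk]
    set c := Nat.card ↥((Q.subgroupOf J).subgroupOf (L.subgroupOf J)) with hc
    have e6 : c * (Q.subgroupOf J).relIndex (L.subgroupOf J) = Nat.card ↥(L.subgroupOf J) :=
      ((Q.subgroupOf J).subgroupOf (L.subgroupOf J)).card_mul_index
    refine ⟨c, ?_⟩
    have hpos : 0 < (Q.subgroupOf J).index :=
      Nat.pos_of_ne_zero Subgroup.index_ne_zero_of_finite
    refine Nat.eq_of_mul_eq_mul_right hpos ?_
    rw [e1, ← e2, ← e6, ← e4]
    ring
  have hmem : ∀ y ∈ J, Odd (orderOf y) → y ∈ L := fun y hy ho => mem_subgroupOf.1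
    (mem_of_isSubnormal_of_index hsnJ k hidx ⟨y, hy⟩ (by rwa [← Subgroup.orderOf_coe]))
  have key : ∀ q ∈ Q, ∀ x ∈ L, q * x * q⁻¹ ∈ L := by
    intro q hq x hx
    rw [← oddGenerated_eq_of_perfect hp, Cfsg.oddGenerated] at hx
    induction hx using closure_induction with
    | mem y hy =>
      refine hmem _ (mul_mem (mul_mem (mem_sup_right hq) (mem_sup_left hy.1))
        (inv_mem (mem_sup_right hq))) ?_
      have := orderOf_injective (MulAut.conj q).toMonoidHom (MulAut.conj q).injective y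
      rw [MulEquiv.coe_toMonoidHom, MulAut.conj_apply] at this
      rw [this]; exact hy.2
    | one => simp
    | mul a b _ _ ha hb =>
      rw [show q * (a * b) * q⁻¹ = (q * a * q⁻¹) * (q * b * q⁻¹) by group]; exact mul_mem ha hb
    | inv a _ ha =>
      rw [show q * a⁻¹ * q⁻¹ = (q * a * q⁻¹)⁻¹ by group]; exact inv_mem ha
  intro q hq
  refine mem_normalizer_iff.2 fun x => ⟨fun hx => key q hq x hx, fun hx => ?_⟩
  simpa [mul_assoc] using key q⁻¹ (inv_mem hq) _ hx

/-- The involutions of the centre of `O_2(Y)` generate `Ω₁(Z(O_2(Y)))`, which consists of them. -/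
theorem mem_omega_iff {P : Subgroup G} {x : G} :
    x ∈ Cfsg.omegaOne 2 (P ⊓ centralizer (P : Set G)) ↔
      x ∈ P ∧ x ∈ centralizer (P : Set G) ∧ x ^ 2 = 1 := by
  constructor
  · intro hx
    rw [Cfsg.omegaOne] at hx
    induction hx using closure_induction with
    | mem y hy => exact ⟨hy.1.1, hy.1.2, hy.2⟩
    | one => exact ⟨one_mem _, one_mem _, one_pow _⟩
    | mul a b _ _ ha hb =>
      refine ⟨mul_mem ha.1 hb.1, mul_mem ha.2.1 hb.2.1, ?_⟩
      have hc : Commute a b := mem_centralizer_iff.1 hb.2.1 a ha.1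
      rw [hc.mul_pow, ha.2.2, hb.2.2, one_mul]
    | inv a _ ha => exact ⟨inv_mem ha.1, inv_mem ha.2.1, by rw [inv_pow, ha.2.2, inv_one]⟩
  · exact fun h => subset_closure ⟨⟨h.1, h.2.1⟩, h.2.2⟩

theorem moduleV_eq_bot_iff {Y : Subgroup G} :
    Cfsg.moduleV Y = ⊥ ↔ ∀ x ∈ Cfsg.pCoreTwoOf Y, x ∈ centralizer (Cfsg.pCoreTwoOf Y : Set G) →
      x ^ 2 = 1 → x ∈ centralizer (Y : Set G) := by
  rw [Cfsg.moduleV, commutator_eq_bot_iff_le_centralizer]
  exact ⟨fun h x a b c => h (mem_omega_iff.2 ⟨a, b, c⟩),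
    fun h x hx => h x (mem_omega_iff.1 hx).1 (mem_omega_iff.1 hx).2.1 (mem_omega_iff.1 hx).2.2⟩

/-- The members of `ℒ(G, T)` above a faithful one are faithful. -/
theorem mem_calLf_of_le [Finite G] (he : Cfsg.IsOfEvenCharacteristic G) (T : Sylow 2 G)
    {L K : Subgroup G} (hL : L ∈ Cfsg.calLf (T : Subgroup G))
    (hK : K ∈ Cfsg.calL (T : Subgroup G)) (hLK : L ≤ K) : K ∈ Cfsg.calLf (T : Subgroup G) := by
  haveI : Fact (Nat.Prime 2) := ⟨Nat.prime_two⟩
  obtain ⟨hLL, ⟨hL1, -, -⟩, hLV⟩ := hL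
  have hKall := hK
  obtain ⟨⟨hKne, hKp, hKsn, -⟩, -, hKO⟩ := hK
  obtain ⟨⟨-, hLp, hLsn, -⟩, -, -⟩ := hLL
  set X := L ⊔ (T : Subgroup G) with hX
  set Y := K ⊔ (T : Subgroup G) with hY
  have hKY : K ≤ Y := le_sup_left
  have hLX : L ≤ X := le_sup_left
  have hXY : X ≤ Y := sup_le_sup_right hLK _
  have perf : ∀ {A B : Subgroup G}, A ≤ B → ⁅A.subgroupOf B, A.subgroupOf B⁆ = A.subgroupOf B →
      ⁅A, A⁆ = A := by
    intro A B hAB h
    have := congrArg (Subgroup.map B.subtype) h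
    rwa [map_commutator, map_subgroupOf_eq_of_le hAB] at this
  have hKperf := perf hKY hKp
  have hLperf := perf hLX hLp
  -- characteristic two
  set QY := Cfsg.pCoreTwoOf Y with hQY
  have hQne : QY ≠ ⊥ := fun e => hKO ((map_eq_bot_iff_of_injective _ Y.subtype_injective).1 e)
  set N := normalizer (QY : Set G) with hN
  have hYN : Y ≤ N := le_normalizer_twoCore Y
  have hTN : (T : Subgroup G) ≤ N := le_sup_right.trans hYN
  have hchar := he N ⟨QY, isPGroup_twoCore Y, hQne, rfl⟩ ⟨T, hTN⟩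
  have hON : Cfsg.pCoreTwoOf N ≤ T := by
    intro x hx
    obtain ⟨n, hn, rfl⟩ := hx
    haveI := pCore_normal' (G := N) 2
    exact mem_subgroupOf.1 ((CfsgLib.Coprime.pCore_isPGroup 2).le_sylow_of_normal (T.subtype hTN) hn)
  have hONY : Cfsg.pCoreTwoOf N ≤ QY :=
    le_twoCore (hON.trans le_sup_right) (isPGroup_twoCore N) (hYN.trans (le_normalizer_twoCore N))
  have hself : ∀ x ∈ Y, x ∈ centralizer (QY : Set G) → x ∈ QY := by
    intro x hx hc
    have : (⟨x, hYN hx⟩ : N) ∈ centralizer (Cfsg.pCore 2 N : Set N) :=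
      mem_centralizer_iff.2 fun n hn => Subtype.ext
        (mem_centralizer_iff.1 hc (n : G) (hONY ⟨n, hn, rfl⟩))
    exact hONY ⟨_, hchar this, rfl⟩
  have hcY : PClean 2 Y := by
    refine pClean_of_centralizer_le fun x hx => ?_
    have hc' : (x : G) ∈ centralizer (QY : Set G) := by
      refine mem_centralizer_iff.2 ?_
      rintro _ ⟨q, hq, rfl⟩
      exact congrArg Subtype.val (mem_centralizer_iff.1 hx q hq)
    obtain ⟨z, hz, hzx⟩ := hself x x.2 hc'
    exact Subtype.ext hzx ▸ hz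
  have hcK : PClean 2 K :=
    pClean_congr (subgroupOfEquivOfLe hKY) (CfsgLib.CharPLoc.pClean_of_isSubnormal hKsn hcY)
  refine ⟨hKall, ⟨?_, oddGenerated_eq_of_perfect hKperf,
    CfsgLib.CharPLoc.fStar_eq_pCore_iff.2 hcK⟩, ?_⟩
  · intro e
    exact hKne (by rw [e, bot_subgroupOf])
  intro hVK
  rw [moduleV_eq_bot_iff] at hVK
  -- `K` centralizes `Ω₁(Z(O₂(Y)))`
  have hQK : Cfsg.pCoreTwoOf K ≤ QY := twoCore_mono hKY hKsn
  have hQnK : QY ≤ normalizer (K : Set G) := twoCore_le_normalizer hKY hKsn hKperf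
  set W := Cfsg.omegaOne 2 (QY ⊓ centralizer (QY : Set G)) with hW
  have hWK : K ≤ centralizer (W : Set G) := by
    have hc1 : ⁅W, K⁆ ≤ centralizer (K : Set G) := by
      rw [commutator_le]
      intro w hw k hk
      obtain ⟨hw1, hw2, hw3⟩ := mem_omega_iff.1 hw
      have hkN := hYN (hKY hk)
      have hcK' : w * k * w⁻¹ * k⁻¹ ∈ K :=
        mul_mem ((mem_normalizer_iff.1 (hQnK hw1) k).1 hk) (inv_mem hk)
      have hw' : k * w⁻¹ * k⁻¹ ∈ QY ∧ k * w⁻¹ * k⁻¹ ∈ centralizer (QY : Set G) ∧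
          (k * w⁻¹ * k⁻¹) ^ 2 = 1 := by
        refine ⟨(mem_normalizer_iff.1 hkN _).1 (inv_mem hw1), mem_centralizer_iff.2 fun q hq => ?_,
          by rw [conj_pow, inv_pow, hw3, inv_one, mul_one, mul_inv_cancel]⟩
        have hq' : k⁻¹ * q * k ∈ QY := (mem_normalizer_iff.1 hkN _).2 (by simpa [mul_assoc] using hq)
        have := mem_centralizer_iff.1 (inv_mem hw2) _ hq'
        calc q * (k * w⁻¹ * k⁻¹) = k * ((k⁻¹ * q * k) * w⁻¹) * k⁻¹ := by group
          _ = k * (w⁻¹ * (k⁻¹ * q * k)) * k⁻¹ := by rw [this]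
          _ = k * w⁻¹ * k⁻¹ * q := by group
      have e : w * k * w⁻¹ * k⁻¹ = w * (k * w⁻¹ * k⁻¹) := by group
      have hcQ : w * k * w⁻¹ * k⁻¹ ∈ QY := e ▸ mul_mem hw1 hw'.1
      have hcC : w * k * w⁻¹ * k⁻¹ ∈ centralizer (QY : Set G) := e ▸ mul_mem hw2 hw'.2.1
      have hcI : w * k * w⁻¹ * k⁻¹ ∈ Cfsg.pCoreTwoOf K :=
        le_twoCore (R := QY ⊓ K) inf_le_right ((isPGroup_twoCore Y).to_le inf_le_left)
          (inf_le_normalizer (hKY.trans hYN) le_normalizer) ⟨hcQ, hcK'⟩
      refine hVK _ hcI (centralizer_le hQK hcC) ?_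
      rw [commutatorElement_def, e]
      have hc : Commute w (k * w⁻¹ * k⁻¹) := mem_centralizer_iff.1 hw'.2.1 w hw1
      rw [hc.mul_pow, hw3, hw'.2.2, one_mul]
    have h0 : ⁅⁅W, K⁆, K⁆ = ⊥ := commutator_eq_bot_iff_le_centralizer.2 hc1
    have h0' : ⁅⁅K, W⁆, K⁆ = ⊥ := by rwa [commutator_comm K W]
    have h1 := commutator_commutator_eq_bot_of_rotate h0' h0
    rw [hKperf] at h1
    exact commutator_eq_bot_iff_le_centralizer.1 h1
  -- hence `L` centralizes `Ω₁(Z(O₂(L)))`
  set Q := Cfsg.pCoreTwoOf X with hQ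
  have hTX : (T : Subgroup G) ≤ X := le_sup_right
  have hQYX : QY ≤ Q := by
    refine le_twoCore ?_ (isPGroup_twoCore Y) (hXY.trans hYN)
    intro x hx
    obtain ⟨n, hn, rfl⟩ := hx
    haveI := pCore_normal' (G := Y) 2
    exact hTX (mem_subgroupOf.1 ((CfsgLib.Coprime.pCore_isPGroup 2).le_sylow_of_normal
      (T.subtype le_sup_right) hn))
  have hcentQ : ∀ x ∈ Q, x ∈ centralizer (Q : Set G) → x ^ 2 = 1 → x ∈ centralizer (K : Set G) := by
    intro x hx hc h2
    have hxC : x ∈ centralizer (QY : Set G) := centralizer_le hQYX hc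
    refine mem_centralizer_iff.2 fun k hk => ?_
    have hxW : x ∈ W := mem_omega_iff.2 ⟨hself x (hXY (twoCore_le X hx)) hxC, hxC, h2⟩
    exact (mem_centralizer_iff.1 (hWK hk) x hxW).symm
  apply hLV
  rw [moduleV_eq_bot_iff]
  set PL := Cfsg.pCoreTwoOf L with hPL
  set Z := Cfsg.omegaOne 2 (PL ⊓ centralizer (PL : Set G)) with hZ
  have hQnL : Q ≤ normalizer (L : Set G) := twoCore_le_normalizer hLX hLsn hLperf
  have hPLQ : PL ≤ Q := twoCore_mono hLX hLsn
  have hPLnorm : normalizer (L : Set G) ≤ normalizer (PL : Set G) := by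
    have key : ∀ g ∈ normalizer (L : Set G), PL.map (MulAut.conj g).toMonoidHom ≤ PL := by
      intro g hg
      refine le_twoCore ?_ ((isPGroup_twoCore L).map _) ?_
      · rintro _ ⟨x, hx, rfl⟩
        exact (mem_normalizer_iff.1 hg x).1 (twoCore_le L hx)
      · intro l hl
        refine mem_normalizer_iff.2 fun y => ?_
        have hl' : g⁻¹ * l * g ∈ L := (mem_normalizer_iff.1 hg _).2 (by simpa [mul_assoc] using hl)
        have hN' := mem_normalizer_iff.1 (le_normalizer_twoCore L hl')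
        simp only [mem_map_equiv, MulAut.conj_symm_apply]
        have := hN' (g⁻¹ * y * g)
        convert this using 2
        group
    intro g hg
    refine mem_normalizer_iff.2 fun x => ⟨fun hx => key g hg ⟨x, hx, rfl⟩, fun hx => ?_⟩
    have := key g⁻¹ (inv_mem hg) (mem_map_of_mem _ hx)
    simpa [MulAut.conj_apply, mul_assoc] using this
  have hZnorm : normalizer (PL : Set G) ≤ normalizer (Z : Set G) := by
    intro g hg
    have key : ∀ g ∈ normalizer (PL : Set G), ∀ x ∈ Z, g * x * g⁻¹ ∈ Z := by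
      intro g hg x hx
      obtain ⟨h1, h2, h3⟩ := mem_omega_iff.1 hx
      refine mem_omega_iff.2 ⟨(mem_normalizer_iff.1 hg x).1 h1, mem_centralizer_iff.2 fun q hq => ?_,
        by rw [conj_pow, h3, mul_one, mul_inv_cancel]⟩
      have hq' : g⁻¹ * q * g ∈ PL := (mem_normalizer_iff.1 hg _).2 (by simpa [mul_assoc] using hq)
      have := mem_centralizer_iff.1 h2 _ hq'
      calc q * (g * x * g⁻¹) = g * ((g⁻¹ * q * g) * x) * g⁻¹ := by group
        _ = g * (x * (g⁻¹ * q * g)) * g⁻¹ := by rw [this]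
        _ = g * x * g⁻¹ * q := by group
    refine mem_normalizer_iff.2 fun x => ⟨fun hx => key g hg x hx, fun hx => ?_⟩
    simpa [mul_assoc] using key g⁻¹ (inv_mem hg) _ hx
  have hZp : IsPGroup 2 Z := (isPGroup_twoCore L).to_le fun x hx => (mem_omega_iff.1 hx).1
  have hodd : ∀ a ∈ L, Odd (orderOf a) → a ∈ centralizer (Z : Set G) := by
    intro a ha hao
    set A := zpowers a with hA
    have hAcard : (Nat.card A).Coprime 2 := by
      rw [hA, Nat.card_zpowers]; exact Nat.coprime_two_right.2 hao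
    have hAL : A ≤ L := zpowers_le.2 ha
    have hAQ : A ≤ normalizer (Q : Set G) := (hAL.trans hLX).trans (le_normalizer_twoCore X)
    have hcop : (Nat.card A).Coprime (Nat.card Q) := by
      obtain ⟨m, hm⟩ := (isPGroup_twoCore X).exists_card_eq
      rw [hm]; exact hAcard.pow_right m
    haveI : Group.IsNilpotent Q := (isPGroup_twoCore X).isNilpotent
    have hdec := commutator_sup_centralizer hAQ hcop (Or.inr inferInstance)
    have hcomm : ⁅Q, A⁆ ≤ PL := by
      suffices h0 : ⁅Q, A⁆ ≤ Q ⊓ L from h0.trans (le_twoCore inf_le_right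
        ((isPGroup_twoCore X).to_le inf_le_left)
        (inf_le_normalizer (hLX.trans (le_normalizer_twoCore X)) le_normalizer))
      refine le_inf ?_ ?_
      · rw [commutator_le]
        intro q hq b hb
        have h1 : b * q⁻¹ * b⁻¹ ∈ Q := (mem_normalizer_iff.1 (hAQ hb) _).1 (inv_mem hq)
        rw [commutatorElement_def, show q * b * q⁻¹ * b⁻¹ = q * (b * q⁻¹ * b⁻¹) by group]
        exact mul_mem hq h1
      · rw [commutator_le]
        intro q hq b hb
        exact mul_mem ((mem_normalizer_iff.1 (hQnL hq) b).1 (hAL hb)) (inv_mem (hAL hb))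
    set P := Q ⊓ centralizer (A : Set G) with hP
    refine pq_lemma (p := 2) (P := P) (Q := A) (U := Z) ((isPGroup_twoCore X).to_le inf_le_left)
      hAcard hZp inf_le_right (((inf_le_left.trans hQnL).trans hPLnorm).trans hZnorm)
      (((hAL.trans le_normalizer).trans hPLnorm).trans hZnorm) ?_ (mem_zpowers a)
    rintro u ⟨hu, huP⟩
    obtain ⟨hu1, hu2, hu3⟩ := mem_omega_iff.1 hu
    have huQ : u ∈ centralizer (Q : Set G) := by
      rw [← hdec]
      refine mem_centralizer_iff.2 fun q hq => ?_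
      have : q ∈ centralizer ({u} : Set G) := by
        refine (sup_le ?_ ?_ : ⁅Q, A⁆ ⊔ P ≤ centralizer ({u} : Set G)) hq
        · exact fun x hx => mem_centralizer_singleton_iff.2 (mem_centralizer_iff.1 hu2 x (hcomm hx))
        · exact fun x hx => mem_centralizer_singleton_iff.2 (mem_centralizer_iff.1 huP x hx)
      exact mem_centralizer_singleton_iff.1 this
    have huK := hcentQ u (hPLQ hu1) huQ hu3
    exact mem_centralizer_iff.2 fun b hb => mem_centralizer_iff.1 huK b (hLK (hAL hb))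
  intro x hx hxc hx2
  refine mem_centralizer_iff.2 fun l hl => ?_
  have hle : L ≤ centralizer (Z : Set G) := by
    rw [← oddGenerated_eq_of_perfect hLperf, Cfsg.oddGenerated, closure_le]
    exact fun y hy => hodd y hy.1 hy.2
  exact (mem_centralizer_iff.1 (hle hl) x (mem_omega_iff.2 ⟨hx, hxc, hx2⟩)).symm

end CfsgLib.Quasithin
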